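import Cfsg.Agent.H412.OT.Defs
import Cfsg.Agent.KFacts.ChevTwoInst
import Cfsg.Agent.H355.RgdRoots

/-!
# S2539: linear Weyl action, long roots (helper501)

* `exists_rep` : for `n ∈ N` there is `w ∈ W` with `vec (π n r) = w (vec r)` for all roots `r`;
* `pr_eq` : `pr D r s = ⟨vec s, vec r^∨⟩`; `pr_perm`; `perm_neg`; `long_perm`;
* `abs_pr_le` : `|⟨s, r^∨⟩| ≤ 2` for `r` long;
* `eq_zero_of_long` : a vector orthogonal to all long roots is zero;
* `pr_mul_lt` : `0 ≤ ⟨a, b^∨⟩⟨b, a^∨⟩ < 4` for `b ≠ ± a`.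
-/

set_option autoImplicit false
set_option linter.unusedSectionVars false

namespace Cfsg.Agent.H501.OT

open CoxeterSystem Cfsg.Agent.ChevalleyStructure.CoxeterGeom Cfsg.Agent.Tits.Roots Cfsg.Agent.Tits.Core
  Cfsg.Agent.Nodes.Reps Cfsg.Agent.Nodes.BNOf
open Cfsg.Lie Cfsg.Agent.ChevalleyStructure Cfsg.Agent.ChevalleyStructure.Elts
  Cfsg.Agent.ChevalleyStructure.NPerm Cfsg.Agent.ChevalleyStructure.CoxeterGeomTypes
open Cfsg.Agent.Nodes.RGDChev Cfsg.Agent.Nodes.Coroot Cfsg.Agent.H412.OT

universe u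

section Check

/-- `r` is long, boolean -/
def longB (D : ChevalleyDatum) (r : ℕ) : Bool :=
  (List.range D.nroots).all fun s => s == r || (s == D.neg r || decide ((KFacts.ChevTwoTab.carB D r s).natAbs ≤ 1))

/-- every simple root is not orthogonal to some long root -/
def simB (D : ChevalleyDatum) : Bool :=
  (List.range D.rank).all fun i => (List.range D.nroots).any fun r =>
    decide (KFacts.ChevTwoTab.carB D (D.simple i) r ≠ 0) && longB D r

theorem simB_G2 : simB chevG2 = true := by decide +kernel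
theorem simB_B2 : simB chevB2 = true := by decide +kernel
theorem simB_D4 : simB chevD4 = true := by decide +kernel
theorem simB_F4 : simB chevF4 = true := by decide +kernel
theorem simB_E6 : simB chevE6 = true := by decide +kernel
theorem simB_E7 : simB chevE7 = true := by decide +kernel

/-- `carB`, without the terms with coefficient zero -/
def carZ (D : ChevalleyDatum) (r s : ℕ) : ℤ :=
  ((List.range D.rank).map fun k => bif decide ((D.coroot.getD r #[]).getD k 0 = 0) then 0 else
    (D.coroot.getD r #[]).getD k 0 * D.cartan k s).sum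

theorem carZ_eq (D : ChevalleyDatum) (r s : ℕ) : carZ D r s = KFacts.ChevTwoTab.carB D r s := by
  unfold carZ KFacts.ChevTwoTab.carB
  congr 1
  refine List.map_congr_left fun k _ => ?_
  by_cases h : (D.coroot.getD r #[]).getD k 0 = 0
  · rw [decide_eq_true h, cond_true, h, zero_mul]
  · rw [decide_eq_false h, cond_false]

/-- one simple root of `simB` -/
def simB1 (D : ChevalleyDatum) (i : ℕ) : Bool :=
  decide (D.simple i < D.nroots) && (decide (carZ D (D.simple i) (D.simple i) ≠ 0) &&
    (List.range D.nroots).all fun s => s == D.simple i || (s == D.neg (D.simple i) ||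
      decide ((carZ D (D.simple i) s).natAbs ≤ 1)))

theorem simB1_E8_a : ∀ i < 4, simB1 chevE8 i = true := by decide +kernel
theorem simB1_E8_b : ∀ i < 4, simB1 chevE8 (4 + i) = true := by decide +kernel

theorem simB_of (D : ChevalleyDatum) (h : ∀ i < D.rank, simB1 D i = true) : simB D = true := by
  rw [simB, List.all_eq_true]
  intro i hi
  rw [List.any_eq_true]
  have h1 := h i (List.mem_range.1 hi)
  simp only [simB1, carZ_eq] at h1
  rw [Bool.and_eq_true, decide_eq_true_eq] at h1
  exact ⟨D.simple i, List.mem_range.2 h1.1, h1.2⟩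

theorem simB_E8 : simB chevE8 = true := by
  refine simB_of chevE8 fun i hi => ?_
  have hi8 : i < 8 := hi
  rcases Nat.lt_or_ge i 4 with h | h
  · exact simB1_E8_a i h
  · obtain ⟨j, rfl⟩ := Nat.exists_eq_add_of_le h
    exact simB1_E8_b j (by omega)

theorem simB_eq {D : ChevalleyDatum} (hD : InList D) : simB D = true := by
  simp only [InList, List.mem_cons, List.not_mem_nil, or_false] at hD
  rcases hD with rfl | rfl | rfl | rfl | rfl | rfl | rfl
  exacts [simB_G2, simB_B2, simB_D4, simB_F4, simB_E6, simB_E7, simB_E8]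

theorem isLong_of_longB {D : ChevalleyDatum} {r : ℕ} (hr : r < D.nroots) (h : longB D r = true) : IsLong D r := by
  refine ⟨hr, fun s hs h1 h2 => ?_⟩
  rw [longB, List.all_eq_true] at h
  have h3 := h s (List.mem_range.2 hs)
  rw [Bool.or_eq_true, Bool.or_eq_true, beq_iff_eq, beq_iff_eq, decide_eq_true_eq] at h3
  have h4 := (h3.resolve_left h1).resolve_left h2
  rw [KFacts.ChevTwoInst.carB_eq] at h4
  have h5 : (pr D r s).natAbs ≤ 1 := h4
  rw [Int.abs_eq_natAbs]
  exact_mod_cast h5

theorem exists_long {D : ChevalleyDatum} (hD : InList D) {i : ℕ} (hi : i < D.rank) :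
    ∃ r, IsLong D r ∧ pr D (D.simple i) r ≠ 0 := by
  have h := simB_eq hD
  rw [simB, List.all_eq_true] at h
  have h3 := h i (List.mem_range.2 hi)
  rw [List.any_eq_true] at h3
  obtain ⟨r, hr, h4⟩ := h3
  rw [Bool.and_eq_true, decide_eq_true_eq, KFacts.ChevTwoInst.carB_eq] at h4
  exact ⟨r, isLong_of_longB (List.mem_range.1 hr) h4.2, h4.1⟩

end Check

section Lin

variable {D : ChevalleyDatum} {l : ℕ} {M : CoxeterMatrix (Fin l)} (hp : IsType D l M)
  {W : Type*} [Group W] (cs : CoxeterSystem M W) {K : Type u} [Field K]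

theorem pr_eq {r s : ℕ} (hr : r < D.nroots) (hs : s < D.nroots) :
    pr D r s = cpr cs hp.isCartan (vec D l s) (vec D l r) :=
  (KFacts.ChevTwoInst.cpr_vec hp cs hr s hs).symm

/-- `n ∈ N` acts linearly on the roots. -/
theorem exists_rep (n : ↥(D.monomialSubgroup K)) : ∃ w : W, ∀ r : Fin D.nroots,
    vec D l (permHom hp.inList K n r) = rep cs hp.isCartan w (vec D l r) := by
  have h1 : permHom hp.inList K n ∈ (permHom hp.inList K).range := ⟨n, rfl⟩
  rw [range_permHom hp.inList K] at h1
  generalize permHom hp.inList K n = σ at h1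
  induction h1 using Subgroup.closure_induction with
  | mem x hx =>
    obtain ⟨i, rfl⟩ := hx
    have hi' : (i : ℕ) < l := by rw [← hp.rank_eq]; exact i.2
    refine ⟨cs.simple ⟨i, hi'⟩, fun r => ?_⟩
    rw [rep_vec hp cs ⟨i, hi'⟩ r.2]
    congr 1
    exact permHom_nG hp.inList i.2 _ (coe_nG _ _ _) r
  | one => exact ⟨1, fun r => by rw [map_one, Module.End.one_apply]; rfl⟩
  | mul x y _ _ hx hy =>
    obtain ⟨v, hv⟩ := hx
    obtain ⟨w, hw⟩ := hy
    refine ⟨v * w, fun r => ?_⟩
    rw [Equiv.Perm.mul_apply, hv, hw, rep_mul_apply]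
  | inv x _ hx =>
    obtain ⟨v, hv⟩ := hx
    refine ⟨v⁻¹, fun r => ?_⟩
    have := hv (x⁻¹ r)
    rw [show x (x⁻¹ r) = r from x.apply_symm_apply r] at this
    rw [this, rep_inv_apply]

include hp in
/-- `N` preserves the pairing. -/
theorem pr_perm (n : ↥(D.monomialSubgroup K)) (r s : Fin D.nroots) :
    pr D (permHom hp.inList K n r) (permHom hp.inList K n s) = pr D r s := by
  have cs := M.toCoxeterSystem
  have := finite_W hp cs
  obtain ⟨w, hw⟩ := exists_rep hp cs (K := K) n
  rw [pr_eq hp cs (Fin.is_lt _) (Fin.is_lt _), pr_eq hp cs r.2 s.2, hw, hw, cpr_rep _ _ _ _ (isRoot_vec hp cs r.2)]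

include hp in
theorem perm_neg (n : ↥(D.monomialSubgroup K)) (r : Fin D.nroots) :
    (permHom hp.inList K n ⟨D.neg r, neg_lt hp.inList r.2⟩ : Fin D.nroots).1 =
      D.neg (permHom hp.inList K n r : Fin D.nroots) := by
  have cs := M.toCoxeterSystem
  obtain ⟨w, hw⟩ := exists_rep hp cs (K := K) n
  apply vec_inj hp (Fin.is_lt _) (neg_lt hp.inList (Fin.is_lt _))
  rw [vec_neg hp (Fin.is_lt _), hw, hw, vec_neg hp r.2, map_neg]

include hp in
theorem long_perm (n : ↥(D.monomialSubgroup K)) {r : Fin D.nroots} (hr : IsLong D r) :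
    IsLong D (permHom hp.inList K n r : Fin D.nroots) := by
  refine ⟨Fin.is_lt _, fun s hs h1 h2 => ?_⟩
  obtain ⟨s', hs'⟩ := (permHom hp.inList K n).surjective ⟨s, hs⟩
  have e : s = (permHom hp.inList K n s' : Fin D.nroots) := (congrArg Fin.val hs').symm
  subst e
  rw [pr_perm hp]
  refine hr.2 s' s'.2 (fun h => h1 ?_) (fun h => h2 ?_)
  · rw [Fin.ext h]
  · rw [← perm_neg hp]
    congr 2
    exact Fin.ext h

include hp in
theorem pr_self {r : ℕ} (hr : r < D.nroots) : pr D r r = 2 := by
  have cs := M.toCoxeterSystem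
  have := finite_W hp cs
  rw [pr_eq hp cs hr hr, cpr_self cs _ (isRoot_vec hp cs hr)]

include hp in
theorem pr_neg {r : ℕ} (hr : r < D.nroots) : pr D r (D.neg r) = -2 := by
  have cs := M.toCoxeterSystem
  have := finite_W hp cs
  rw [pr_eq hp cs hr (neg_lt hp.inList hr), vec_neg hp hr, cpr_neg cs _ _ (isRoot_vec hp cs hr),
    cpr_self cs _ (isRoot_vec hp cs hr)]

include hp in
theorem abs_pr_le {r s : ℕ} (hr : IsLong D r) (hs : s < D.nroots) : |pr D r s| ≤ 2 := by
  by_cases h1 : s = r
  · rw [h1, pr_self hp hr.1]; norm_num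
  · by_cases h2 : s = D.neg r
    · rw [h2, pr_neg hp hr.1]; norm_num
    · exact (hr.2 s hs h1 h2).trans (by norm_num)

include hp in
theorem pr_mul_lt {a b : ℕ} (ha : a < D.nroots) (hb : b < D.nroots) (h1 : b ≠ a) (h2 : b ≠ D.neg a) :
    0 ≤ pr D a b * pr D b a ∧ pr D a b * pr D b a < 4 := by
  have cs := M.toCoxeterSystem
  have := finite_W hp cs
  have := Fintype.ofFinite M.Group
  rw [pr_eq hp cs ha hb, pr_eq hp cs hb ha]
  refine Cfsg.Agent.H355.Rgd.cpr_mul_lt (isRoot_vec hp cs hb) (isRoot_vec hp cs ha) ?_ ?_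
  · intro h
    exact h1 (vec_inj hp hb ha h.symm)
  · intro h
    apply h2
    apply vec_inj hp hb (neg_lt hp.inList ha)
    rw [vec_neg hp ha, h, neg_neg]

/-- a vector orthogonal to all long roots is zero -/
theorem eq_zero_of_long {v : Fin l → ℤ}
    (hv : ∀ r, IsLong D r → cpr cs hp.isCartan v (vec D l r) = 0) : v = 0 := by
  have := finite_W hp cs
  have := Fintype.ofFinite W
  have h0 : ∀ i : Fin l, form cs hp.isCartan v (sr i) = 0 := by
    intro i
    have hi : (i : ℕ) < D.rank := by rw [hp.rank_eq]; exact i.2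
    obtain ⟨r, hr, hne⟩ := exists_long hp.inList hi
    have hir := simple_lt hp.inList hi
    -- the reflected root
    let n : ↥(D.monomialSubgroup (ULift.{0} ℚ)) := ⟨nG hp.inList (D.simple i) 1, nG_simple_mem hp.inList _ hi⟩
    have h1 := long_perm hp n (r := ⟨r, hr.1⟩) hr
    have h2 : ((permHom hp.inList (ULift.{0} ℚ) n ⟨r, hr.1⟩ : Fin D.nroots) : ℕ) = D.reflectRoot i r :=
      permHom_nG hp.inList hi _ (coe_nG _ _ _) _
    rw [h2] at h1
    have e1 := hv _ h1
    have e2 := hv _ hr
    rw [cpr_zero_iff cs hp.isCartan v (isRoot_vec hp cs h1.1)] at e1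
    rw [cpr_zero_iff cs hp.isCartan v (isRoot_vec hp cs hr.1)] at e2
    rw [← rep_vec hp cs i hr.1, rep_simple_eq, form_sub_right, e2, form_smul_right, zero_sub, neg_eq_zero,
      mul_eq_zero] at e1
    refine e1.resolve_left ?_
    intro h3
    apply hne
    rw [pr_eq hp cs hir hr.1, vec_simple hp i, cpr_sr, h3]
  by_contra hne
  have h1 := form_pos cs hp.isCartan hne
  rw [form_eq_sum] at h1
  refine h1.ne' (Finset.sum_eq_zero fun i _ => ?_)
  rw [h0]
  ring

end Lin

end Cfsg.Agent.H501.OT
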