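import Cfsg.Agent.H186.OT.Iface
import Cfsg.Agent.H501.OT.Abs
import Cfsg.Agent.H501.OT.Long

/-!
# S2539, parts 2.1 and 2.2, concrete part (helper501)

`F` least non-good, `S_F = ∅`. With the facts of layer 0 (`Inp`):
* `least` : `Least T F` (so `inf_conj`, `mem_of_comm`, ... are available);
* `le_GS` : `F ≤ ⟨T, X_a : a ∈ Ψ⟩`, `Ψ` the roots trivial on `Z(F)`;
* `mem_Zf_iff` : `Z(F) = ⋂_{a ∈ Ψ} ker a` in `T`;
* `ql` : `n ∈ N_F(T)`, `[T, n, n] ≤ Z(F)` ⟹ `n ∈ T`;
* `ctx` : helper298's `Ctx`.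
-/

set_option autoImplicit false
set_option linter.unusedSectionVars false

namespace Cfsg.Agent.H501.OT

open Subgroup Cfsg.Lie Cfsg.Agent.H412.OT Cfsg.Agent.H186.OT
open Cfsg.Agent.ChevalleyStructure Cfsg.Agent.ChevalleyStructure.Elts Cfsg.Agent.ChevalleyStructure.NPerm
  Cfsg.Agent.ChevalleyStructure.CoxeterGeom
open Cfsg.Agent.Tits.Roots Cfsg.Agent.Nodes.RGDChev Cfsg.Agent.Nodes.Coroot
open scoped commutatorElement

universe u

variable {K : Type u} [Field K] {D : ChevalleyDatum} {F : Subgroup (GL D.Idx K)}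

/-- The facts of layer 0 used here. -/
structure Inp (D : ChevalleyDatum) (K : Type u) [Field K] (l : ℕ) (hD : InList D)
    (F : Subgroup (GL D.Idx K)) : Prop where
  /-- `C_G(T) = T` -/
  cent : ∀ g ∈ D.group K, (∀ t ∈ D.diagonalSubgroup K, t * g = g * t) → g ∈ D.diagonalSubgroup K
  /-- LT2 -/
  lt2 : ∀ g ∈ D.group K,
    (∀ t ∈ D.diagonalSubgroup K, g * t * g⁻¹ ∈ normalizer (D.diagonalSubgroup K : Set (GL D.Idx K))) →
    g ∈ normalizer (D.diagonalSubgroup K : Set (GL D.Idx K))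
  /-- W1 -/
  mono : ∀ n ∈ D.group K, n ∈ normalizer (D.diagonalSubgroup K : Set (GL D.Idx K)) → n ∈ D.monomialSubgroup K
  /-- W3 -/
  chi : ∀ (n : ↥(D.monomialSubgroup K)) (t : GL D.Idx K), t ∈ D.diagonalSubgroup K → ∀ s : Fin D.nroots,
    chi D K ((n : GL D.Idx K) * t * (n : GL D.Idx K)⁻¹) (permHom hD K n s : Fin D.nroots) = chi D K t s
  /-- W4 -/
  refl : ∀ n : ↥(D.monomialSubgroup K), (n : GL D.Idx K) ∈ GS D K (Psi D K F) → ∀ s : Fin D.nroots,
    vec D l (permHom hD K n s : Fin D.nroots) - vec D l s ∈ AddSubgroup.closure (vec D l '' Psi D K F)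
  /-- W5 -/
  norm : D.group K ⊓ centralizer (Zf F : Set (GL D.Idx K)) ≤ normalizer (GS D K (Psi D K F) : Set (GL D.Idx K))

theorem tor_comm (hD : InList D) {x y : GL D.Idx K} (hx : x ∈ D.diagonalSubgroup K)
    (hy : y ∈ D.diagonalSubgroup K) : x * y = y * x := by
  apply Units.ext
  rw [Units.val_mul, Units.val_mul, coe_tor hD hx, coe_tor hD hy, Matrix.diagonal_mul_diagonal,
    Matrix.diagonal_mul_diagonal]
  congr 1
  funext i
  exact mul_comm _ _

theorem orderOf_gen [Fintype K] {g : Kˣ} (hg : ∀ x : Kˣ, x ∈ zpowers g) : orderOf g = Fintype.card K - 1 := by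
  classical
  rw [orderOf_eq_card_of_forall_mem_zpowers hg, Nat.card_eq_fintype_card, Fintype.card_units]

section

variable {l : ℕ} {hD : InList D} (I : Inp D K l hD F) (h : MinBad D K F) (he : SF D K F = ∅)

include I h he

theorem least : Least (D.diagonalSubgroup K) F where
  le := h.tor
  comm _ hx _ hy := tor_comm hD hx hy
  cent x hx hc := I.cent x (h.le hx) hc
  ne := MinBad.not_le_norm h
  uniq _ h1 h2 h3 := MinBad.le_norm h he h1 (lt_of_le_of_ne h2 h3)
  lt g hg hc := I.lt2 g (h.le hg) hc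

theorem Zf_le : Zf F ≤ D.diagonalSubgroup K := (least I h he).ZF_le

/-- **2.2** -/
theorem le_GS : F ≤ GS D K (Psi D K F) := by
  refine (least I h he).le_of_normalizer le_sup_left ?_
  refine le_trans (fun x hx => mem_inf.2 ⟨h.le hx, ?_⟩) I.norm
  rw [mem_centralizer_iff]
  intro z hz
  exact ((mem_Zf.1 hz).2 x hx).symm

/-- `Z(F)` is the intersection of the kernels of the roots in `Ψ`. -/
theorem mem_Zf_iff {t : GL D.Idx K} (ht : t ∈ D.diagonalSubgroup K) :
    t ∈ Zf F ↔ ∀ a ∈ Psi D K F, H412.OT.chi D K t a = 1 := by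
  constructor
  · intro hz a ha
    exact ha.2 t hz
  · intro hc
    rw [mem_Zf]
    refine ⟨h.tor ht, fun x hx => ?_⟩
    have h1 : GS D K (Psi D K F) ≤ centralizer {t} := by
      refine sup_le (fun s hs => ?_) (iSup₂_le fun a ha => ?_)
      · rw [mem_centralizer_singleton_iff]
        exact tor_comm hD hs ht
      · intro y hy
        obtain ⟨b, rfl⟩ := (mem_rootSubgroup_iff hD a y).1 hy
        rw [mem_centralizer_singleton_iff]
        have h2 := tor_conj_xG hD ht ha.1 b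
        rw [hc a ha, one_mul, mul_inv_eq_iff_eq_mul] at h2
        exact h2.symm
    exact mem_centralizer_singleton_iff.1 (h1 (le_GS I h he hx))

theorem Psi_nonempty : (Psi D K F).Nonempty := by
  by_contra hne
  rw [Set.not_nonempty_iff_eq_empty] at hne
  apply (least I h he).ne
  have h1 := le_GS I h he
  rw [hne] at h1
  refine h1.trans ?_
  rw [GS]
  simp only [Set.mem_empty_iff_false, iSup_false, iSup_bot, sup_bot_eq]
  exact le_normalizer

/-- **`[T, n, n] ≤ Z(F)` implies `n ∈ T`.** -/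
theorem ql [Fintype K] (hK : 13 ≤ Fintype.card K) {M : CoxeterMatrix (Fin l)} (hp : IsType D l M) {n : GL D.Idx K}
    (hn : n ∈ F) (hN : n ∈ normalizer (D.diagonalSubgroup K : Set (GL D.Idx K)))
    (hc : ∀ t ∈ D.diagonalSubgroup K, ⁅⁅t, n⁆, n⁆ ∈ Zf F) : n ∈ D.diagonalSubgroup K := by
  have hm := I.mono n (h.le hn) hN
  let n' : ↥(D.monomialSubgroup K) := ⟨n, hm⟩
  have cs := M.toCoxeterSystem
  have := finite_W hp cs
  obtain ⟨w, hw⟩ := exists_rep hp cs (K := K) n'
  -- the values of roots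
  have hact : ∀ (t : GL D.Idx K), t ∈ D.diagonalSubgroup K → ∀ s : Fin D.nroots,
      H412.OT.chi D K (n * t * n⁻¹) s = H412.OT.chi D K t ((permHom hD K n').symm s : Fin D.nroots) := by
    intro t ht s
    have h1 := I.chi n' t ht ((permHom hD K n').symm s)
    rw [Equiv.apply_symm_apply] at h1
    exact h1
  have hTn : ∀ t ∈ D.diagonalSubgroup K, n * t * n⁻¹ ∈ D.diagonalSubgroup K := fun t ht =>
    (mem_normalizer_iff.1 hN t).1 ht
  have hcm : ∀ t ∈ D.diagonalSubgroup K, ⁅t, n⁆ ∈ D.diagonalSubgroup K := by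
    intro t ht
    have e : ⁅t, n⁆ = t * (n * t⁻¹ * n⁻¹) := by
      rw [commutatorElement_def]; group
    rw [e]
    exact mul_mem ht (hTn _ (inv_mem ht))
  have hchi : ∀ t ∈ D.diagonalSubgroup K, ∀ s : Fin D.nroots, H412.OT.chi D K ⁅t, n⁆ s =
      H412.OT.chi D K t s * (H412.OT.chi D K t ((permHom hD K n').symm s : Fin D.nroots))⁻¹ := by
    intro t ht s
    have e : ⁅t, n⁆ * (n * t * n⁻¹) = t := by
      rw [commutatorElement_def]; group
    have h1 := chi_mul hD (hcm t ht) (hTn t ht) s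
    rw [e, hact t ht] at h1
    rw [h1, mul_inv_cancel_right₀ (chi_ne_zero hD ht _)]
  -- the relation on `Ψ`
  have key : ∀ a ∈ vec D l '' Psi D K F,
      rep cs hp.isCartan w⁻¹ (rep cs hp.isCartan w⁻¹ a) + a = 2 • rep cs hp.isCartan w⁻¹ a := by
    rintro _ ⟨a, ha, rfl⟩
    have hw' : ∀ s : Fin D.nroots, rep cs hp.isCartan w⁻¹ (vec D l s) =
        vec D l ((permHom hD K n').symm s : Fin D.nroots) := by
      intro s
      have h1 := hw ((permHom hD K n').symm s)
      rw [show hp.inList = hD from rfl, Equiv.apply_symm_apply] at h1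
      rw [h1, rep_inv_apply]
    set a0 : Fin D.nroots := ⟨a, ha.1⟩ with ha0
    set a1 := (permHom hD K n').symm a0 with ha1
    set a2 := (permHom hD K n').symm a1 with ha2
    have e1 : rep cs hp.isCartan w⁻¹ (vec D l a) = vec D l a1 := hw' a0
    rw [e1, hw' a1, ← ha2]
    rw [← sub_eq_zero]
    apply eq_zero_of_long hp cs
    intro r hr
    have hrt := isRoot_vec hp cs hr.1
    rw [sub_eq_add_neg, ← neg_nsmul, cpr_add cs _ _ _ hrt, cpr_add cs _ _ _ hrt, ← natCast_zsmul,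
      cpr_smul cs _ _ _ hrt, cpr_neg cs _ _ hrt, ← pr_eq hp cs hr.1 a2.2, ← pr_eq hp cs hr.1 ha.1,
      ← pr_eq hp cs hr.1 a1.2]
    -- the exponent
    obtain ⟨g, hg⟩ := IsCyclic.exists_generator (α := Kˣ)
    have ho := orderOf_gen hg
    have hg0 : (g : K) ≠ 0 := g.ne_zero
    have hT := hG_mem hD hr.1 hg0
    have h2 := ha.2 _ (hc _ hT)
    have h3 := hchi _ (hcm _ hT) a0
    rw [show ((a0 : Fin D.nroots) : ℕ) = a from rfl, h2, ← ha1, hchi _ hT a1,
      show H412.OT.chi D K ⁅hG hD r (g : K), n⁆ a = H412.OT.chi D K ⁅hG hD r (g : K), n⁆ a0 from rfl,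
      hchi _ hT a0, ← ha1, ← ha2, chi_hG hD hr.1 a0.2 hg0, chi_hG hD hr.1 a1.2 hg0, chi_hG hD hr.1 a2.2 hg0] at h3
    have h4 : g ^ (pr D r a2 + pr D r a + (2 : ℤ) * -pr D r a1) = 1 := by
      apply Units.ext
      rw [Units.val_zpow_eq_zpow_val, Units.val_one, h3]
      rw [show pr D r a2 + pr D r a + (2 : ℤ) * -pr D r a1 =
        pr D r a0 + -pr D r a1 + (-pr D r a1 + pr D r a2) by ring]
      rw [zpow_add₀ hg0, zpow_add₀ hg0, zpow_add₀ hg0, zpow_neg, mul_inv, inv_inv]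
    have h5 : ((Fintype.card K - 1 : ℕ) : ℤ) ∣ pr D r a2 + pr D r a + (2 : ℤ) * -pr D r a1 := by
      rw [← ho]
      exact orderOf_dvd_iff_zpow_eq_one.2 h4
    have b0 := abs_le.1 (abs_pr_le hp hr a0.2)
    have b1 := abs_le.1 (abs_pr_le hp hr a1.2)
    have b2 := abs_le.1 (abs_pr_le hp hr a2.2)
    rw [show ((a0 : Fin D.nroots) : ℕ) = a from rfl] at b0
    obtain ⟨k, hk⟩ := h5
    have hk0 : k = 0 := by
      by_contra hk0
      have hq : (12 : ℤ) ≤ ((Fintype.card K - 1 : ℕ) : ℤ) := by omega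
      rcases lt_or_gt_of_ne hk0 with hk1 | hk1
      · have : ((Fintype.card K - 1 : ℕ) : ℤ) * k ≤ -12 := by nlinarith
        omega
      · have : (12 : ℤ) ≤ ((Fintype.card K - 1 : ℕ) : ℤ) * k := by nlinarith
        omega
    rw [hk0, mul_zero] at hk
    exact_mod_cast hk
  -- `w` is trivial
  have hfix : ∀ s : Fin D.nroots, rep cs hp.isCartan w⁻¹ (vec D l s) = vec D l s := by
    intro s
    refine eq_of_closure (V := Fin l → ℤ) ?_ (rep cs hp.isCartan w⁻¹).toAddMonoidHom (m := orderOf w⁻¹)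
      (orderOf_pos _).ne' ?_ key ?_
    · intro m v hm hv
      exact (smul_eq_zero.1 hv).resolve_left hm
    · intro v
      have e : ∀ k : ℕ, (⇑(rep cs hp.isCartan w⁻¹).toAddMonoidHom)^[k] v = rep cs hp.isCartan (w⁻¹ ^ k) v := by
        intro k
        induction k with
        | zero => rw [pow_zero, map_one, Module.End.one_apply]; rfl
        | succ k ih => rw [Function.iterate_succ_apply', ih, pow_succ', rep_mul_apply]; rfl
      rw [e, pow_orderOf_eq_one, map_one, Module.End.one_apply]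
    · have h1 := I.refl n'⁻¹ (inv_mem (le_GS I h he hn)) s
      have h2 := hw ((permHom hD K n').symm s)
      rw [show hp.inList = hD from rfl, Equiv.apply_symm_apply] at h2
      show rep cs hp.isCartan w⁻¹ (vec D l s) - vec D l s ∈ _
      rw [h2, rep_inv_apply, ← h2]
      rw [map_inv] at h1
      exact h1
  have hker : n' ∈ (permHom hD K).ker := by
    rw [MonoidHom.mem_ker]
    ext s
    apply vec_inj hp (Fin.is_lt _) (Fin.is_lt _)
    rw [show permHom hD K n' s = permHom hp.inList K n' s from rfl, hw]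
    have h1 := hfix s
    have h2 := congrArg (rep cs hp.isCartan w) h1
    rw [rep_apply_inv] at h2
    exact h2.symm
  rw [ker_permHom] at hker
  exact hker

omit I h he in
theorem chi_zpow (hD : InList D) {t : GL D.Idx K} (ht : t ∈ D.diagonalSubgroup K) (s : ℕ) (i : ℤ) :
    H412.OT.chi D K (t ^ i) s = H412.OT.chi D K t s ^ i := by
  have h1 : ∀ m : ℕ, H412.OT.chi D K (t ^ m) s = H412.OT.chi D K t s ^ m := by
    intro m
    induction m with
    | zero => rw [pow_zero, pow_zero, chi_one]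
    | succ m ih => rw [pow_succ, pow_succ, chi_mul hD (pow_mem ht m) ht, ih]
  rcases i with m | m
  · rw [Int.ofNat_eq_natCast, zpow_natCast, zpow_natCast, h1]
  · rw [zpow_negSucc, zpow_negSucc, ← h1]
    apply eq_inv_of_mul_eq_one_left
    rw [← chi_mul hD (inv_mem (pow_mem ht _)) (pow_mem ht _), inv_mul_cancel, chi_one]

/-- `T / Z(F)` is not cyclic if `Ψ` has rank at least two. -/
theorem noncyc [Fintype K] (hK : 13 ≤ Fintype.card K) {M : CoxeterMatrix (Fin l)} (hp : IsType D l M)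
    {a b : ℕ} (ha : a ∈ Psi D K F) (hb : b ∈ Psi D K F) (h1 : b ≠ a) (h2 : b ≠ D.neg a) :
    ¬ IsCyclic (((D.diagonalSubgroup K).subgroupOf F).map (QuotientGroup.mk' (center F))) := by
  intro hc
  obtain ⟨⟨τ', hτ'⟩, hgen⟩ := hc.exists_generator
  obtain ⟨τ, hτ'', rfl⟩ := hτ'
  have hτ : (τ : GL D.Idx K) ∈ D.diagonalSubgroup K := hτ''
  -- every element of `T` is `τ ^ i z`
  have hpow : ∀ t : GL D.Idx K, t ∈ D.diagonalSubgroup K → ∃ i : ℤ, ∀ s ∈ Psi D K F,
      H412.OT.chi D K t s = H412.OT.chi D K (τ : GL D.Idx K) s ^ i := by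
    intro t ht
    have htF := h.tor ht
    have hmem : QuotientGroup.mk' (center F) ⟨t, htF⟩ ∈
        ((D.diagonalSubgroup K).subgroupOf F).map (QuotientGroup.mk' (center F)) := ⟨⟨t, htF⟩, ht, rfl⟩
    obtain ⟨i, hi⟩ := mem_zpowers_iff.1 (hgen ⟨_, hmem⟩)
    refine ⟨i, fun s hs => ?_⟩
    have h3 := congrArg Subtype.val hi
    rw [SubgroupClass.coe_zpow] at h3
    change QuotientGroup.mk' (center F) τ ^ i = QuotientGroup.mk' (center F) ⟨t, htF⟩ at h3
    rw [← map_zpow, QuotientGroup.mk'_apply, QuotientGroup.mk'_apply, QuotientGroup.eq, ← coe_mem_Zf] at h3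
    have h4 := hs.2 _ h3
    have h5 : ((τ ^ i)⁻¹ * ⟨t, htF⟩ : F) = (((τ : GL D.Idx K) ^ i)⁻¹ * t : GL D.Idx K) := by
      simp
    rw [h5] at h4
    have h6 : t = (τ : GL D.Idx K) ^ i * (((τ : GL D.Idx K) ^ i)⁻¹ * t) := by group
    rw [h6, chi_mul hD (zpow_mem hτ i) (mul_mem (inv_mem (zpow_mem hτ i)) ht), h4, mul_one, chi_zpow hD hτ]
  obtain ⟨g, hg⟩ := IsCyclic.exists_generator (α := Kˣ)
  have ho := orderOf_gen hg
  have hg0 : (g : K) ≠ 0 := g.ne_zero
  obtain ⟨i, hi⟩ := hpow _ (hG_mem hD ha.1 hg0)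
  obtain ⟨j, hj⟩ := hpow _ (hG_mem hD hb.1 hg0)
  have nz : ∀ s, H412.OT.chi D K (τ : GL D.Idx K) s ≠ 0 := fun s => chi_ne_zero hD hτ s
  have e1 := hi a ha
  have e2 := hi b hb
  have e3 := hj a ha
  have e4 := hj b hb
  rw [chi_hG hD ha.1 ha.1 hg0, pr_self hp ha.1] at e1
  rw [chi_hG hD ha.1 hb.1 hg0] at e2
  rw [chi_hG hD hb.1 ha.1 hg0] at e3
  rw [chi_hG hD hb.1 hb.1 hg0, pr_self hp hb.1] at e4
  have hd := dvd_of_pair (A := Kˣ) (g := g) (α := Units.mk0 _ (nz a)) (β := Units.mk0 _ (nz b)) (i := i) (j := j)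
    (m := pr D a b) (k := pr D b a) hg
    (Units.ext (by rw [Units.val_zpow_eq_zpow_val, Units.val_zpow_eq_zpow_val, Units.val_mk0, e1]))
    (Units.ext (by rw [Units.val_zpow_eq_zpow_val, Units.val_zpow_eq_zpow_val, Units.val_mk0, e2]))
    (Units.ext (by rw [Units.val_zpow_eq_zpow_val, Units.val_zpow_eq_zpow_val, Units.val_mk0, e3]))
    (Units.ext (by rw [Units.val_zpow_eq_zpow_val, Units.val_zpow_eq_zpow_val, Units.val_mk0, e4]))
  obtain ⟨b1, b2⟩ := pr_mul_lt hp ha.1 hb.1 h1 h2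
  have hle := Int.le_of_dvd (by omega) hd
  rw [ho] at hle
  omega

theorem ctx_cent {x : F} (hx : x ∈ centralizer (((D.diagonalSubgroup K).subgroupOf F : Subgroup F) : Set F)) :
    x ∈ (D.diagonalSubgroup K).subgroupOf F := by
  rw [mem_subgroupOf]
  refine (least I h he).cent x x.2 fun t ht => ?_
  have h1 := mem_centralizer_iff.1 hx ⟨t, h.tor ht⟩ ht
  exact congrArg Subtype.val h1

theorem ctx_ne : normalizer (((D.diagonalSubgroup K).subgroupOf F : Subgroup F) : Set F) ≠ ⊤ := by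
  intro hN
  have h0 : ∀ y : F, (y : GL D.Idx K) ∈ normalizer (D.diagonalSubgroup K : Set (GL D.Idx K)) := fun y => by
    rw [← mem_normalizer_subgroupOf h.tor, hN]
    exact mem_top y
  exact (least I h he).ne fun x hx => h0 ⟨x, hx⟩

theorem ctx_uniq (H : Subgroup F) (hT : (D.diagonalSubgroup K).subgroupOf F ≤ H) (hH : H ≠ ⊤) :
    H ≤ normalizer (((D.diagonalSubgroup K).subgroupOf F : Subgroup F) : Set F) := by
  intro x hx
  rw [mem_normalizer_subgroupOf h.tor]
  refine (least I h he).uniq (H.map F.subtype) ?_ (map_subtype_le H) ?_ ⟨x, hx, rfl⟩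
  · intro t ht
    exact ⟨⟨t, h.tor ht⟩, hT ht, rfl⟩
  · intro e
    apply hH
    rw [eq_top_iff]
    intro y _
    have h1 : (y : GL D.Idx K) ∈ H.map F.subtype := by rw [e]; exact y.2
    obtain ⟨z, hz, e2⟩ := h1
    have : z = y := Subtype.ext e2
    rwa [← this]

theorem ctx_lt (f : F) (hf : ∀ t ∈ (D.diagonalSubgroup K).subgroupOf F,
    f * t * f⁻¹ ∈ normalizer (((D.diagonalSubgroup K).subgroupOf F : Subgroup F) : Set F)) :
    f ∈ normalizer (((D.diagonalSubgroup K).subgroupOf F : Subgroup F) : Set F) := by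
  rw [mem_normalizer_subgroupOf h.tor]
  refine (least I h he).lt f f.2 fun t ht => ?_
  have h1 := hf ⟨t, h.tor ht⟩ ht
  rw [mem_normalizer_subgroupOf h.tor] at h1
  exact h1

theorem ctx_ql [Fintype K] (hK : 13 ≤ Fintype.card K) {M : CoxeterMatrix (Fin l)} (hp : IsType D l M) (n : F)
    (hn : n ∈ normalizer (((D.diagonalSubgroup K).subgroupOf F : Subgroup F) : Set F))
    (hc : ∀ t ∈ (D.diagonalSubgroup K).subgroupOf F, ⁅⁅t, n⁆, n⁆ ∈ center F) :
    n ∈ (D.diagonalSubgroup K).subgroupOf F := by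
  rw [mem_subgroupOf]
  rw [mem_normalizer_subgroupOf h.tor] at hn
  refine ql I h he hK hp n.2 hn fun t ht => ?_
  have h1 := hc ⟨t, h.tor ht⟩ ht
  rw [← coe_mem_Zf] at h1
  exact h1

/-- **helper298's context.** -/
theorem ctx [Fintype K] (hK : 13 ≤ Fintype.card K) {M : CoxeterMatrix (Fin l)} (hp : IsType D l M)
    (hrk : ∃ a ∈ Psi D K F, ∃ b ∈ Psi D K F, b ≠ a ∧ b ≠ D.neg a) :
    H298.OT.Ctx ((D.diagonalSubgroup K).subgroupOf F) := by
  refine ⟨fun x hx y hy => Subtype.ext (tor_comm hD hx hy), fun x hx => ctx_cent I h he hx, ctx_ne I h he,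
    ctx_uniq I h he, ctx_lt I h he, ctx_ql I h he hK hp, ?_⟩
  obtain ⟨a, ha, b, hb, h1, h2⟩ := hrk
  exact noncyc I h he hK hp ha hb h1 h2

end

end Cfsg.Agent.H501.OT
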