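import Cfsg.Agent.H501.OT.Inst

/-!
# S2539: `[T, n, n] ≤ Z(F)` implies `n ∈ T` without `S_F = ∅` (helper501)

* `ql_of` : from the input record and `F ≤ G(Ψ)`;
* `ql_gen hy h hle hn hN hc`, `faith hy h hle hn hc` : for a least bad group `F ≤ G(Ψ)`.
-/

set_option autoImplicit false
set_option linter.unusedSectionVars false

namespace Cfsg.Agent.H501.OT

open Subgroup Cfsg.Lie Cfsg.Agent.H412.OT Cfsg.Agent.H186.OT
open Cfsg.Agent.ChevalleyStructure Cfsg.Agent.ChevalleyStructure.Elts Cfsg.Agent.ChevalleyStructure.NPerm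
  Cfsg.Agent.ChevalleyStructure.CoxeterGeom
open Cfsg.Agent.Tits.Roots Cfsg.Agent.Nodes.RGDChev Cfsg.Agent.Nodes.Coroot
open scoped commutatorElement

universe u

variable {K : Type u} [Field K] {D : ChevalleyDatum} {F : Subgroup (GL D.Idx K)}

/-- **`[T, n, n] ≤ Z(F)` implies `n ∈ T`.** -/
theorem ql_of {l : ℕ} {hD : InList D} (I : Inp D K l hD F) (h : MinBad D K F)
    (hle : F ≤ GS D K (Psi D K F)) [Fintype K] (hK : 13 ≤ Fintype.card K) {M : CoxeterMatrix (Fin l)} (hp : IsType D l M) {n : GL D.Idx K}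
    (hn : n ∈ F) (hN : n ∈ normalizer (D.diagonalSubgroup K : Set (GL D.Idx K)))
    (hc : ∀ t ∈ D.diagonalSubgroup K, ⁅⁅t, n⁆, n⁆ ∈ Zf F) : n ∈ D.diagonalSubgroup K := by
  have hm := I.mono n (h.le hn) hN
  let n' : ↥(D.monomialSubgroup K) := ⟨n, hm⟩
  have cs := M.toCoxeterSystem
  have := finite_W hp cs
  obtain ⟨w, hw⟩ := exists_rep hp cs (K := K) n'
  -- the values of roots
  have hact : ∀ (t : GL D.Idx K), t ∈ D.diagonalSubgroup K → ∀ s : Fin D.nroots,
      H412.OT.chi D K (n * t * n⁻¹) s = H412.OT.chi D K t ((permHom hD K n').symm s : Fin D.nroots) := by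
    intro t ht s
    have h1 := I.chi n' t ht ((permHom hD K n').symm s)
    rw [Equiv.apply_symm_apply] at h1
    exact h1
  have hTn : ∀ t ∈ D.diagonalSubgroup K, n * t * n⁻¹ ∈ D.diagonalSubgroup K := fun t ht =>
    (mem_normalizer_iff.1 hN t).1 ht
  have hcm : ∀ t ∈ D.diagonalSubgroup K, ⁅t, n⁆ ∈ D.diagonalSubgroup K := by
    intro t ht
    have e : ⁅t, n⁆ = t * (n * t⁻¹ * n⁻¹) := by
      rw [commutatorElement_def]; group
    rw [e]
    exact mul_mem ht (hTn _ (inv_mem ht))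
  have hchi : ∀ t ∈ D.diagonalSubgroup K, ∀ s : Fin D.nroots, H412.OT.chi D K ⁅t, n⁆ s =
      H412.OT.chi D K t s * (H412.OT.chi D K t ((permHom hD K n').symm s : Fin D.nroots))⁻¹ := by
    intro t ht s
    have e : ⁅t, n⁆ * (n * t * n⁻¹) = t := by
      rw [commutatorElement_def]; group
    have h1 := chi_mul hD (hcm t ht) (hTn t ht) s
    rw [e, hact t ht] at h1
    rw [h1, mul_inv_cancel_right₀ (chi_ne_zero hD ht _)]
  -- the relation on `Ψ`
  have key : ∀ a ∈ vec D l '' Psi D K F,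
      rep cs hp.isCartan w⁻¹ (rep cs hp.isCartan w⁻¹ a) + a = 2 • rep cs hp.isCartan w⁻¹ a := by
    rintro _ ⟨a, ha, rfl⟩
    have hw' : ∀ s : Fin D.nroots, rep cs hp.isCartan w⁻¹ (vec D l s) =
        vec D l ((permHom hD K n').symm s : Fin D.nroots) := by
      intro s
      have h1 := hw ((permHom hD K n').symm s)
      rw [show hp.inList = hD from rfl, Equiv.apply_symm_apply] at h1
      rw [h1, rep_inv_apply]
    set a0 : Fin D.nroots := ⟨a, ha.1⟩ with ha0
    set a1 := (permHom hD K n').symm a0 with ha1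
    set a2 := (permHom hD K n').symm a1 with ha2
    have e1 : rep cs hp.isCartan w⁻¹ (vec D l a) = vec D l a1 := hw' a0
    rw [e1, hw' a1, ← ha2]
    rw [← sub_eq_zero]
    apply eq_zero_of_long hp cs
    intro r hr
    have hrt := isRoot_vec hp cs hr.1
    rw [sub_eq_add_neg, ← neg_nsmul, cpr_add cs _ _ _ hrt, cpr_add cs _ _ _ hrt, ← natCast_zsmul,
      cpr_smul cs _ _ _ hrt, cpr_neg cs _ _ hrt, ← pr_eq hp cs hr.1 a2.2, ← pr_eq hp cs hr.1 ha.1,
      ← pr_eq hp cs hr.1 a1.2]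
    -- the exponent
    obtain ⟨g, hg⟩ := IsCyclic.exists_generator (α := Kˣ)
    have ho := orderOf_gen hg
    have hg0 : (g : K) ≠ 0 := g.ne_zero
    have hT := hG_mem hD hr.1 hg0
    have h2 := ha.2 _ (hc _ hT)
    have h3 := hchi _ (hcm _ hT) a0
    rw [show ((a0 : Fin D.nroots) : ℕ) = a from rfl, h2, ← ha1, hchi _ hT a1,
      show H412.OT.chi D K ⁅hG hD r (g : K), n⁆ a = H412.OT.chi D K ⁅hG hD r (g : K), n⁆ a0 from rfl,
      hchi _ hT a0, ← ha1, ← ha2, chi_hG hD hr.1 a0.2 hg0, chi_hG hD hr.1 a1.2 hg0, chi_hG hD hr.1 a2.2 hg0] at h3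
    have h4 : g ^ (pr D r a2 + pr D r a + (2 : ℤ) * -pr D r a1) = 1 := by
      apply Units.ext
      rw [Units.val_zpow_eq_zpow_val, Units.val_one, h3]
      rw [show pr D r a2 + pr D r a + (2 : ℤ) * -pr D r a1 =
        pr D r a0 + -pr D r a1 + (-pr D r a1 + pr D r a2) by ring]
      rw [zpow_add₀ hg0, zpow_add₀ hg0, zpow_add₀ hg0, zpow_neg, mul_inv, inv_inv]
    have h5 : ((Fintype.card K - 1 : ℕ) : ℤ) ∣ pr D r a2 + pr D r a + (2 : ℤ) * -pr D r a1 := by
      rw [← ho]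
      exact orderOf_dvd_iff_zpow_eq_one.2 h4
    have b0 := abs_le.1 (abs_pr_le hp hr a0.2)
    have b1 := abs_le.1 (abs_pr_le hp hr a1.2)
    have b2 := abs_le.1 (abs_pr_le hp hr a2.2)
    rw [show ((a0 : Fin D.nroots) : ℕ) = a from rfl] at b0
    obtain ⟨k, hk⟩ := h5
    have hk0 : k = 0 := by
      by_contra hk0
      have hq : (12 : ℤ) ≤ ((Fintype.card K - 1 : ℕ) : ℤ) := by omega
      rcases lt_or_gt_of_ne hk0 with hk1 | hk1
      · have : ((Fintype.card K - 1 : ℕ) : ℤ) * k ≤ -12 := by nlinarith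
        omega
      · have : (12 : ℤ) ≤ ((Fintype.card K - 1 : ℕ) : ℤ) * k := by nlinarith
        omega
    rw [hk0, mul_zero] at hk
    exact_mod_cast hk
  -- `w` is trivial
  have hfix : ∀ s : Fin D.nroots, rep cs hp.isCartan w⁻¹ (vec D l s) = vec D l s := by
    intro s
    refine eq_of_closure (V := Fin l → ℤ) ?_ (rep cs hp.isCartan w⁻¹).toAddMonoidHom (m := orderOf w⁻¹)
      (orderOf_pos _).ne' ?_ key ?_
    · intro m v hm hv
      exact (smul_eq_zero.1 hv).resolve_left hm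
    · intro v
      have e : ∀ k : ℕ, (⇑(rep cs hp.isCartan w⁻¹).toAddMonoidHom)^[k] v = rep cs hp.isCartan (w⁻¹ ^ k) v := by
        intro k
        induction k with
        | zero => rw [pow_zero, map_one, Module.End.one_apply]; rfl
        | succ k ih => rw [Function.iterate_succ_apply', ih, pow_succ', rep_mul_apply]; rfl
      rw [e, pow_orderOf_eq_one, map_one, Module.End.one_apply]
    · have h1 := I.refl n'⁻¹ (inv_mem (hle hn)) s
      have h2 := hw ((permHom hD K n').symm s)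
      rw [show hp.inList = hD from rfl, Equiv.apply_symm_apply] at h2
      show rep cs hp.isCartan w⁻¹ (vec D l s) - vec D l s ∈ _
      rw [h2, rep_inv_apply, ← h2]
      rw [map_inv] at h1
      exact h1
  have hker : n' ∈ (permHom hD K).ker := by
    rw [MonoidHom.mem_ker]
    ext s
    apply vec_inj hp (Fin.is_lt _) (Fin.is_lt _)
    rw [show permHom hD K n' s = permHom hp.inList K n' s from rfl, hw]
    have h1 := hfix s
    have h2 := congrArg (rep cs hp.isCartan w) h1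
    rw [rep_apply_inv] at h2
    exact h2.symm
  rw [ker_permHom] at hker
  exact hker


variable [Fintype K] {p : ℕ}

/-- `[T, n, n] ≤ Z(F)` implies `n ∈ T`; no hypothesis on `S_F`. -/
theorem ql_gen (hy : Hyp K p D) (h : MinBad D K F) (hle : F ≤ GS D K (Psi D K F)) {n : GL D.Idx K}
    (hn : n ∈ F) (hN : n ∈ normalizer (D.diagonalSubgroup K : Set (GL D.Idx K)))
    (hc : ∀ t ∈ D.diagonalSubgroup K, ⁅⁅t, n⁆, n⁆ ∈ Zf F) : n ∈ D.diagonalSubgroup K := by
  obtain ⟨l, M, hp⟩ := H3.OT.exists_isType hy.inList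
  exact ql_of (inp hy h hp) h hle hy.card hp hn hN hc

/-- `[T, n] ≤ Z(F)` implies `n ∈ T`. -/
theorem faith (hy : Hyp K p D) (h : MinBad D K F) (hle : F ≤ GS D K (Psi D K F)) {n : GL D.Idx K}
    (hn : n ∈ F) (hc : ∀ t ∈ D.diagonalSubgroup K, n * t * n⁻¹ * t⁻¹ ∈ Zf F) : n ∈ D.diagonalSubgroup K := by
  have hZ := Zf_le_tor hy h
  have h1 : ∀ t ∈ D.diagonalSubgroup K, n * t * n⁻¹ ∈ D.diagonalSubgroup K := by
    intro t ht
    have h2 := mul_mem (hZ (hc t ht)) ht
    rwa [inv_mul_cancel_right] at h2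
  have hN : n ∈ normalizer (D.diagonalSubgroup K : Set (GL D.Idx K)) := by
    have : Finite (GL D.Idx K) := inferInstance
    have h3 : (D.diagonalSubgroup K).map (MulAut.conj n).toMonoidHom = D.diagonalSubgroup K := by
      apply Subgroup.eq_of_le_of_card_ge
      · rintro _ ⟨t, ht, rfl⟩
        exact h1 t ht
      · exact (Nat.card_congr ((D.diagonalSubgroup K).equivMapOfInjective (MulAut.conj n).toMonoidHom
          (MulAut.conj n).injective).toEquiv).le
    rw [mem_normalizer_iff]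
    intro t
    refine ⟨h1 t, fun ht => ?_⟩
    rw [← h3] at ht
    obtain ⟨t', ht', e⟩ := ht
    have : t' = t := (MulAut.conj n).injective e
    rwa [← this]
  refine ql_gen hy h hle hn hN fun t ht => ?_
  have h4 : ⁅t, n⁆ = (n * t * n⁻¹ * t⁻¹)⁻¹ := by
    rw [commutatorElement_def]
    group
  have h5 := inv_mem (hc t ht)
  rw [← h4] at h5
  have h6 : ⁅⁅t, n⁆, n⁆ = 1 := by
    rw [commutatorElement_eq_one_iff_mul_comm]
    exact ((mem_Zf.1 h5).2 n hn).symm
  rw [h6]
  exact one_mem _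

end Cfsg.Agent.H501.OT
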