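import Cfsg.Agent.H501.OT.Inst
import Cfsg.Agent.H460.OT.ShortC
import Cfsg.Agent.H274.OT.CYTab
import Cfsg.Agent.H194.OT.NonCyc

/-!
# S2539, part 5: the fields `om`, `exr` and `Z(F) = ⋂ ker a` (helper501)

`T = D.diagonalSubgroup K`, `Ψ = Psi D K F`, `D = chevF4` or `chevG2`, `γ` a generator of `Kˣ`.
* `mem_Zf_of_chi` : `t ∈ T`, `chi t a = 1` for `a ∈ Ψ` imply `t ∈ Z(F)`;
* `om`, `om_sub` : elements of order two modulo `Z(F)`;
* `exists_psi_not_SF` : `Ψ ⊄ S_F`;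
* `exr_pair`, `exr_A2` : a root `r` with `h_r(γ) ∈ C_T(D_F)`, `h_r(γ)² ∉ Z(F)`.
-/

set_option autoImplicit false
set_option linter.unusedSectionVars false

namespace Cfsg.Agent.H501.OT

open Subgroup Cfsg.Lie Cfsg.Agent.H412.OT Cfsg.Agent.H186.OT
open Cfsg.Agent.ChevalleyStructure Cfsg.Agent.ChevalleyStructure.Elts Cfsg.Agent.ChevalleyStructure.NPerm
open Cfsg.Agent.ChevalleyStructure.RootCombBase (allLt allLt_spec)
open Cfsg.Agent.H460.OT Cfsg.Agent.H460.OT.Short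

universe u

variable {K : Type u} [Field K] [Fintype K] {D : ChevalleyDatum} {F : Subgroup (GL D.Idx K)} {p : ℕ}

/-- **`Z(F) = ⋂_{a ∈ Ψ} ker a`.** -/
theorem mem_Zf_of_chi (hy : Hyp K p D) (h : MinBad D K F) (hle : F ≤ GS D K (Psi D K F)) {t : GL D.Idx K}
    (ht : t ∈ D.diagonalSubgroup K) (hc : ∀ a ∈ Psi D K F, H412.OT.chi D K t a = 1) : t ∈ Zf F := by
  have hD := hy.inList
  rw [mem_Zf]
  refine ⟨h.tor ht, fun x hx => ?_⟩
  have h1 : GS D K (Psi D K F) ≤ centralizer {t} := by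
    refine sup_le (fun s hs => ?_) (iSup₂_le fun a ha => ?_)
    · rw [mem_centralizer_singleton_iff]
      exact tor_comm hD hs ht
    · intro y hy
      obtain ⟨b, rfl⟩ := (mem_rootSubgroup_iff hD a y).1 hy
      rw [mem_centralizer_singleton_iff]
      have h2 := tor_conj_xG hD ht ha.1 b
      rw [hc a ha, one_mul, mul_inv_eq_iff_eq_mul] at h2
      exact h2.symm
  exact mem_centralizer_singleton_iff.1 (h1 (hle hx))

/-- `γ ^ n = 1` with `|n| ≤ 11` implies `n = 0` -/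
theorem zpow_eq_one_small (hq : 13 ≤ Fintype.card K) {γ : Kˣ} (hγ : orderOf γ = Fintype.card K - 1) {n : ℤ}
    (hn : |n| ≤ 11) (h : (γ : K) ^ n = 1) : n = 0 := by
  have h1 : γ ^ n = 1 := Units.ext (by rw [Units.val_zpow_eq_zpow_val, h, Units.val_one])
  have h2 := orderOf_dvd_iff_zpow_eq_one.2 h1
  rw [hγ] at h2
  refine Int.eq_zero_of_abs_lt_dvd h2 ?_
  omega

/-- `h_r(γ) ^ 2 ∉ Z(F)` -/
theorem hG_sq_not_mem (hy : Hyp K p D) {γ : Kˣ} (hγ : orderOf γ = Fintype.card K - 1) {r x : ℕ}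
    (hr : r < D.nroots) (hx : x ∈ Psi D K F) (h0 : pr D r x ≠ 0) : (hG hy.inList r (γ : K)) ^ 2 ∉ Zf F := by
  intro hz
  have hD := hy.inList
  have h1 := hx.2 _ hz
  have hT := hG_mem hD hr γ.ne_zero
  rw [pow_two, chi_mul hD hT hT, chi_hG hD hr hx.1 γ.ne_zero, ← zpow_add₀ γ.ne_zero] at h1
  have h2 := H274.OT.abs_pr_le hD hr hx.1
  rw [abs_le] at h2
  have h3 := zpow_eq_one_small hy.card hγ (n := pr D r x + pr D r x) (by rw [abs_le]; omega) h1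
  omega

/-- `Ψ ⊄ S_F` -/
theorem exists_psi_not_SF (hy : Hyp K p D) (h : MinBad D K F) (hle : F ≤ GS D K (Psi D K F)) :
    ∃ x ∈ Psi D K F, x ∉ SF D K F := by
  by_contra hcon
  push Not at hcon
  apply h.bad
  have h1 : F ≤ DF D K F ⊔ D.diagonalSubgroup K := by
    rw [← H274.OT.GS_SF]
    exact hle.trans (H194.OT.GS_mono hcon)
  intro x hx
  have h2 : x ∈ (DF D K F ⊔ D.diagonalSubgroup K : Subgroup (GL D.Idx K)) := h1 hx
  have h3 : D.diagonalSubgroup K ≤ normalizer (DF D K F : Set (GL D.Idx K)) := fun t ht =>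
    H274.OT.norm_le_normalizer_DF hy h.le ⟨h.tor ht, le_normalizer ht⟩
  rw [← SetLike.mem_coe, Subgroup.coe_mul_of_right_le_normalizer_left _ _ h3, Set.mem_mul] at h2
  obtain ⟨d, hd, t, ht, e⟩ := h2
  exact ⟨d, hd, t, h.tor ht, le_normalizer ht, e.symm⟩

section Om

variable [CharP K p]

theorem neg_one_ne (hy : Hyp K p D) (hDD : D = chevF4 ∨ D = chevG2) : (-1 : K) ≠ 1 := by
  apply Ring.neg_one_ne_one_of_char_ne_two
  rw [ringChar.eq K p]
  apply hy.ne2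
  rcases hDD with rfl | rfl <;> simp

theorem chi_neg_one (hD : InList D) {r s : ℕ} (hr : r < D.nroots) (hs : s < D.nroots) :
    H412.OT.chi D K (hG hD r (-1 : K)) s = (-1) ^ pr D r s := chi_hG hD hr hs (neg_ne_zero.2 one_ne_zero)

theorem hG_neg_one_sq (hD : InList D) {r : ℕ} (hr : r < D.nroots) : (hG hD r (-1 : K)) ^ 2 = 1 := by
  have h1 : (-1 : K) ≠ 0 := neg_ne_zero.2 one_ne_zero
  have hT := hG_mem (K := K) hD hr h1
  apply Units.ext
  rw [coe_tor hD (pow_mem hT 2), Units.val_one, ← Matrix.diagonal_one]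
  congr 1
  funext i
  rcases i with i | s
  · rfl
  · rw [Sum.elim_inr, pow_two, chi_mul hD hT hT, chi_neg_one hD hr s.2, ← zpow_add₀ h1]
    exact (Even.neg_one_zpow ⟨_, rfl⟩)

/-- **The field `om`.** -/
theorem om (hy : Hyp K p D) (hDD : D = chevF4 ∨ D = chevG2) {s a : ℕ} (hs : s ∈ Psi D K F)
    (ha : a ∈ Psi D K F) (hsl : ¬ IsLong D s) (h1 : a ≠ s) (h2 : a ≠ D.neg s) (h3 : pr D s a ≠ 0) :
    ∃ t₁ ∈ D.diagonalSubgroup K, ∃ t₂ ∈ D.diagonalSubgroup K, t₁ ^ 2 ∈ Zf F ∧ t₂ ^ 2 ∈ Zf F ∧ t₁ ∉ Zf F ∧ t₂ ∉ Zf F ∧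
      t₁ * t₂ ∉ Zf F := by
  have hD := hy.inList
  have hne := neg_one_ne hy hDD
  have h0 : (-1 : K) ≠ 0 := neg_ne_zero.2 one_ne_zero
  obtain ⟨r, hr, h4, h5⟩ := sep_single hDD hs.1 ha.1 hsl h1 h2 h3
  obtain ⟨r', hr', h6⟩ := odd_single hDD hs.1
  have hT := hG_mem (K := K) hD hr h0
  have hT' := hG_mem (K := K) hD hr' h0
  refine ⟨hG hD r (-1), hT, hG hD r' (-1), hT', ?_, ?_, ?_, ?_, ?_⟩
  · rw [hG_neg_one_sq hD hr]; exact one_mem _
  · rw [hG_neg_one_sq hD hr']; exact one_mem _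
  · intro hz
    have := ha.2 _ hz
    rw [chi_neg_one hD hr ha.1, h5.neg_one_zpow] at this
    exact hne this
  · intro hz
    have := hs.2 _ hz
    rw [chi_neg_one hD hr' hs.1, h6.neg_one_zpow] at this
    exact hne this
  · intro hz
    have := hs.2 _ hz
    rw [chi_mul hD hT hT', chi_neg_one hD hr hs.1, chi_neg_one hD hr' hs.1, h4.neg_one_zpow, h6.neg_one_zpow,
      one_mul] at this
    exact hne this

/-- **The field `om`** in `↥F`. -/
theorem om_sub (hy : Hyp K p D) (h : MinBad D K F) (hDD : D = chevF4 ∨ D = chevG2) {s a : ℕ} (hs : s ∈ Psi D K F)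
    (ha : a ∈ Psi D K F) (hsl : ¬ IsLong D s) (h1 : a ≠ s) (h2 : a ≠ D.neg s) (h3 : pr D s a ≠ 0) :
    ∃ t₁ ∈ (D.diagonalSubgroup K).subgroupOf F, ∃ t₂ ∈ (D.diagonalSubgroup K).subgroupOf F,
      t₁ ^ 2 ∈ center F ∧ t₂ ^ 2 ∈ center F ∧ t₁ ∉ center F ∧ t₂ ∉ center F ∧ t₁ * t₂ ∉ center F := by
  obtain ⟨t₁, h4, t₂, h5, h6, h7, h8, h9, h10⟩ := om hy hDD hs ha hsl h1 h2 h3
  refine ⟨⟨t₁, h.tor h4⟩, h4, ⟨t₂, h.tor h5⟩, h5, ?_, ?_, ?_, ?_, ?_⟩
  · rw [← coe_mem_Zf]; exact h6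
  · rw [← coe_mem_Zf]; exact h7
  · rw [← coe_mem_Zf]; exact h8
  · rw [← coe_mem_Zf]; exact h9
  · rw [← coe_mem_Zf]; exact h10

end Om

def gl : Bool := allLt (fun r => allLt (fun s => or (lT lG s) (or (not (Nat.beq (pT pG 12 r s) 3)) (lT lG r))) 12) 12

theorem gl_ok : gl = true := by decide +kernel

/-- in `G₂` the roots orthogonal to a short root are long -/
theorem long_of_perp {r s : ℕ} (hr : r < chevG2.nroots) (hs : s < chevG2.nroots) (hsl : ¬ IsLong chevG2 s)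
    (h0 : pr chevG2 r s = 0) : IsLong chevG2 r := by
  rw [nG] at hr hs
  have h1 := allLt_spec (allLt_spec gl_ok r hr) s hs
  have h2 := p_spec chkP_G2 hr hs
  simp only [Bool.or_eq_true, Bool.not_eq_true', ← Bool.not_eq_true, bq] at h1
  rcases h1 with h1 | h1 | h1
  · exact absurd ((l_spec chkL_G2 hs).1 h1) hsl
  · exact absurd (by omega) h1
  · exact (l_spec chkL_G2 hr).1 h1

/-- **The field `exr`, `S_F = {±s}`.** -/
theorem exr_pair (hy : Hyp K p D) (hDD : D = chevF4 ∨ D = chevG2) {s a : ℕ} (hs : s < D.nroots)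
    (hS : SF D K F = {s, D.neg s}) (hsl : ¬ IsLong D s) (ha : a ∈ Psi D K F) (h1 : a ≠ s) (h2 : a ≠ D.neg s)
    {γ : Kˣ} (hγ : orderOf γ = Fintype.card K - 1) :
    ∃ r, r < D.nroots ∧ (D = chevG2 → IsLong D r) ∧ hG hy.inList r (γ : K) ∈ H274.OT.Y0 D K F ∧
      (hG hy.inList r (γ : K)) ^ 2 ∉ Zf F := by
  obtain ⟨r, hr, h3, h4⟩ := H274.OT.perp_pair hDD hs ha.1 h1 h2
  refine ⟨r, hr, ?_, ?_, hG_sq_not_mem hy hγ hr ha h4⟩
  · rintro rfl
    exact long_of_perp hr hs hsl h3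
  · rw [H274.OT.Y0_eq]
    refine H274.OT.hG_mem_YS hy.inList (fun r hr => hr.1) ⟨hr, ?_⟩ γ.ne_zero
    rw [hS]
    rintro x (rfl | hx)
    · exact h3
    · rw [Set.mem_singleton_iff.1 hx, pr_neg_right hy.inList hs, h3, neg_zero]

/-- **The field `exr`, `S_F` a short `A₂` of `F₄`.** -/
theorem exr_A2 {F : Subgroup (GL chevF4.Idx K)} (hy : Hyp K p chevF4) {a c d : ℕ} (e1 : pr chevF4 a c = 1)
    (e2 : pr chevF4 c a = 1) (e3 : chevF4.chainRoot (chevF4.neg a) c 1 = some d)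
    (hS : SF chevF4 K F = {a, chevF4.neg a, c, chevF4.neg c, d, chevF4.neg d}) {x : ℕ} (hx : x ∈ Psi chevF4 K F)
    (hxS : x ∉ SF chevF4 K F) {γ : Kˣ} (hγ : orderOf γ = Fintype.card K - 1) :
    ∃ r, r < chevF4.nroots ∧ hG hy.inList r (γ : K) ∈ H274.OT.Y0 chevF4 K F ∧
      (hG hy.inList r (γ : K)) ^ 2 ∉ Zf F := by
  have hD := hy.inList
  have ha : a < chevF4.nroots := by
    have : a ∈ SF chevF4 K F := by rw [hS]; simp
    exact this.1
  have hc : c < chevF4.nroots := by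
    have : c ∈ SF chevF4 K F := by rw [hS]; simp
    exact this.1
  have hd : d < chevF4.nroots := (chainRoot_lt hD e3).2.2
  have hna : chevF4.neg a < chevF4.nroots := neg_lt hD ha
  have hnn : chevF4.neg (chevF4.neg a) = a := by
    have h47 := H274.OT.neg47
    rw [nF] at ha hna
    have h1 := h47 a ha
    have h2 := h47 _ hna
    omega
  have hsum : ∀ r < 48, pr chevF4 r d = pr chevF4 r (chevF4.neg a) + pr chevF4 r c := fun r _ => pr_add hD e3 r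
  rw [hS] at hxS
  simp only [Set.mem_insert_iff, Set.mem_singleton_iff, not_or] at hxS
  obtain ⟨x1, x2, x3, x4, x5, x6⟩ := hxS
  obtain ⟨r, hr, h3, h4, h5⟩ := H274.OT.perp_A2 (a := chevF4.neg a) (b := c) (c := d) (x := x) (nF ▸ hna) (nF ▸ hc)
    (nF ▸ hd) (by rw [pr_neg_left hD ha, e1]) (by rw [pr_neg_right hD ha, e2]) hsum (nF ▸ hx.1) x2 x3 x5
    (by rw [hnn]; exact x1) x4 x6
  have hr' : r < chevF4.nroots := by rw [nF]; exact hr
  have h3' : pr chevF4 r a = 0 := by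
    rw [pr_neg_right hD ha] at h3
    omega
  have h6 : pr chevF4 r d = 0 := by rw [hsum r hr, h3, h4, add_zero]
  refine ⟨r, hr', ?_, hG_sq_not_mem hy hγ hr' hx h5⟩
  rw [H274.OT.Y0_eq]
  refine H274.OT.hG_mem_YS hD (fun r hr => hr.1) ⟨hr', ?_⟩ γ.ne_zero
  rw [hS]
  intro y hy'
  simp only [Set.mem_insert_iff, Set.mem_singleton_iff] at hy'
  rcases hy' with rfl | rfl | rfl | rfl | rfl | rfl
  · exact h3'
  · exact h3
  · exact h4
  · rw [pr_neg_right hD hc, h4, neg_zero]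
  · exact h6
  · rw [pr_neg_right hD hd, h6, neg_zero]

end Cfsg.Agent.H501.OT
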