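import Mathlib

/-!
# Conjugacy of complements in `V⟨s⟩` (helper501, S2539)

`exists_conj_comp` : `V` finite abelian, normalised by `s`, `v ∈ V`, `(v s) ^ N = s ^ N = 1`, `N` prime to `|V|`:
`v s` is `V`-conjugate to `s`.
-/

set_option autoImplicit false

namespace Cfsg.Agent.H501.OT

/-- The commutative case, written with an endomorphism. -/
theorem exists_div_map {V : Type*} [CommGroup V] [Finite V] (σ : V →* V) (v : V) {f : ℕ → V} (h0 : f 0 = 1)
    (hf : ∀ i, f (i + 1) = v * σ (f i)) {N : ℕ} (hN : N.Coprime (Nat.card V)) (h1 : f N = 1) :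
    ∃ u : V, u * (σ u)⁻¹ = v := by
  have hbij := Nat.Coprime.pow_left_bijective (G := V) hN.symm
  have h2 : (∏ i ∈ Finset.range N, f i) * (σ (∏ i ∈ Finset.range N, f i))⁻¹ = v ^ N := by
    have h3 : ∏ i ∈ Finset.range N, f (i + 1) = v ^ N * σ (∏ i ∈ Finset.range N, f i) := by
      rw [map_prod, Finset.prod_congr rfl fun i _ => hf i, Finset.prod_mul_distrib, Finset.prod_const,
        Finset.card_range]
    have h4 : ∏ i ∈ Finset.range N, f (i + 1) = ∏ i ∈ Finset.range N, f i := by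
      have h5 := Finset.prod_range_succ f N
      rw [Finset.prod_range_succ', h0, h1, mul_one, mul_one] at h5
      exact h5
    rw [mul_inv_eq_iff_eq_mul, ← h3, h4]
  obtain ⟨u, hu⟩ := hbij.2 (∏ i ∈ Finset.range N, f i)
  refine ⟨u, hbij.1 ?_⟩
  change (u * (σ u)⁻¹) ^ N = v ^ N
  rw [← h2, ← hu, mul_pow, inv_pow]
  change u ^ N * (σ u ^ N)⁻¹ = u ^ N * (σ (u ^ N))⁻¹
  rw [map_pow]

/-- **Complements are conjugate.** -/
theorem exists_conj_comp {G : Type*} [Group G] {V : Subgroup G} [Finite V] (hab : ∀ a ∈ V, ∀ b ∈ V, a * b = b * a)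
    {s v : G} (hv : v ∈ V) (hs : ∀ x ∈ V, s * x * s⁻¹ ∈ V) {N : ℕ} (hN : N.Coprime (Nat.card V))
    (h1 : (v * s) ^ N = 1) (h2 : s ^ N = 1) : ∃ u ∈ V, u * s * u⁻¹ = v * s := by
  let _ : CommGroup V := { (inferInstance : Group V) with mul_comm := fun a b => Subtype.ext (hab a a.2 b b.2) }
  let σ : V →* V :=
    { toFun := fun x => ⟨s * x * s⁻¹, hs x x.2⟩
      map_one' := Subtype.ext (by simp)
      map_mul' := fun a b => Subtype.ext (by push_cast; group) }
  let f : ℕ → V := fun i => Nat.rec 1 (fun _ y => ⟨v, hv⟩ * σ y) i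
  have hf : ∀ i, f (i + 1) = ⟨v, hv⟩ * σ (f i) := fun _ => rfl
  have hpow : ∀ i, (v * s) ^ i = (f i).1 * s ^ i := by
    intro i
    induction i with
    | zero => rw [pow_zero, pow_zero, mul_one]; rfl
    | succ i ih =>
      rw [pow_succ', ih, hf, pow_succ' s]
      change v * s * ((f i).1 * s ^ i) = v * (s * (f i).1 * s⁻¹) * (s * s ^ i)
      group
  have h3 : f N = 1 := by
    have h4 := hpow N
    rw [h1, h2, mul_one] at h4
    exact Subtype.ext h4.symm
  obtain ⟨u, hu⟩ := exists_div_map σ ⟨v, hv⟩ (f := f) rfl hf hN h3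
  refine ⟨u, u.2, ?_⟩
  have h4 := congrArg Subtype.val hu
  change u.1 * (s * u.1 * s⁻¹)⁻¹ = v at h4
  rw [← h4]
  group

end Cfsg.Agent.H501.OT
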