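import Cfsg.Agent.H501.OT.Conc
import Cfsg.Agent.H428.OT.LTC
import Cfsg.Agent.H3.OT.Refl
import Cfsg.Agent.H194.OT.RankOneEnd

/-!
# S2539, parts 2.1 and 2.2: the facts, instantiated (helper501)

For `hy : Hyp K p D`, `h : MinBad D K F`, `he : SF D K F = ∅`:
* `Zf_le_tor`, `inp` : helper501's input record (W1 – W5 of helper3, LT2 and `C_G(T) = T` of helper428);
* `fLeast`, `fle_GS`, `fmem_Zf_iff`, `fPsi_nonempty`, `fql` : the conclusions of `Conc` without hypotheses;
* `exists_two` : `Ψ` contains two roots `a`, `b ≠ ± a` (helper194's rank one case);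
* `fctx` : helper298's `Ctx`.
-/

set_option autoImplicit false
set_option linter.unusedSectionVars false

namespace Cfsg.Agent.H501.OT

open Subgroup Cfsg.Lie Cfsg.Agent.H412.OT Cfsg.Agent.H186.OT
open Cfsg.Agent.ChevalleyStructure Cfsg.Agent.ChevalleyStructure.Elts Cfsg.Agent.ChevalleyStructure.NPerm
  Cfsg.Agent.ChevalleyStructure.CoxeterGeom
open Cfsg.Agent.Tits.Roots Cfsg.Agent.Nodes.RGDChev Cfsg.Agent.Nodes.Coroot
open scoped commutatorElement

universe u

variable {K : Type u} [Field K] [Fintype K] {D : ChevalleyDatum} {F : Subgroup (GL D.Idx K)} {p : ℕ}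

/-- `Z(F) ≤ T`. -/
theorem Zf_le_tor (hy : Hyp K p D) (h : MinBad D K F) : Zf F ≤ D.diagonalSubgroup K := by
  intro x hx
  obtain ⟨h1, h2⟩ := mem_Zf.1 hx
  have hc := hy.card
  exact H428.OT.mem_tor_of_comm (by omega) hy.inList (h.le h1) fun t ht => (h2 t (h.tor ht)).symm

/-- The facts of layer 0. -/
theorem inp (hy : Hyp K p D) (h : MinBad D K F) {l : ℕ} {M : CoxeterMatrix (Fin l)} (hp : IsType D l M) :
    Inp D K l hy.inList F := by
  have hc := hy.card
  have hc' : 13 ≤ Nat.card K := by rw [Nat.card_eq_fintype_card]; exact hc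
  refine ⟨?_, ?_, ?_, ?_, ?_, ?_⟩
  · intro g hg hgt
    exact H428.OT.mem_tor_of_comm (by omega) hy.inList hg fun t ht => (hgt t ht).symm
  · intro g hg hN
    exact H428.OT.lt_tor_norm (by omega) hy.mem hg hN
  · intro n hn hN
    exact H3.OT.mem_monomial_of_norm hy.inList (by omega) hn hN
  · intro n t ht s
    exact H3.OT.chi_perm hy.inList n ht s
  · intro n hn s
    exact H3.OT.refl_Psi hc' hp (Zf_le_tor hy h) n hn s
  · exact H3.OT.cent_le_norm hy.inList (Zf_le_tor hy h)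

theorem fLeast (hy : Hyp K p D) (h : MinBad D K F) (he : SF D K F = ∅) : Least (D.diagonalSubgroup K) F := by
  obtain ⟨l, M, hp⟩ := H3.OT.exists_isType hy.inList
  exact least (inp hy h hp) h he

/-- **2.2** : `F ≤ G(Ψ)`. -/
theorem fle_GS (hy : Hyp K p D) (h : MinBad D K F) (he : SF D K F = ∅) : F ≤ GS D K (Psi D K F) := by
  obtain ⟨l, M, hp⟩ := H3.OT.exists_isType hy.inList
  exact le_GS (inp hy h hp) h he

/-- `Z(F)` is the intersection of the kernels of the roots in `Ψ`. -/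
theorem fmem_Zf_iff (hy : Hyp K p D) (h : MinBad D K F) (he : SF D K F = ∅) {t : GL D.Idx K}
    (ht : t ∈ D.diagonalSubgroup K) : t ∈ Zf F ↔ ∀ a ∈ Psi D K F, H412.OT.chi D K t a = 1 := by
  obtain ⟨l, M, hp⟩ := H3.OT.exists_isType hy.inList
  exact mem_Zf_iff (inp hy h hp) h he ht

theorem fPsi_nonempty (hy : Hyp K p D) (h : MinBad D K F) (he : SF D K F = ∅) : (Psi D K F).Nonempty := by
  obtain ⟨l, M, hp⟩ := H3.OT.exists_isType hy.inList
  exact Psi_nonempty (inp hy h hp) h he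

/-- `[T, n, n] ≤ Z(F)` implies `n ∈ T`. -/
theorem fql (hy : Hyp K p D) (h : MinBad D K F) (he : SF D K F = ∅) {n : GL D.Idx K}
    (hn : n ∈ F) (hN : n ∈ normalizer (D.diagonalSubgroup K : Set (GL D.Idx K)))
    (hc : ∀ t ∈ D.diagonalSubgroup K, ⁅⁅t, n⁆, n⁆ ∈ Zf F) : n ∈ D.diagonalSubgroup K := by
  obtain ⟨l, M, hp⟩ := H3.OT.exists_isType hy.inList
  exact ql (inp hy h hp) h he hy.card hp hn hN hc

/-- `Ψ` contains two independent roots. -/
theorem exists_two (hy : Hyp K p D) (h : MinBad D K F) (he : SF D K F = ∅) :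
    ∃ a ∈ Psi D K F, ∃ b ∈ Psi D K F, b ≠ a ∧ b ≠ D.neg a := by
  by_contra hcon
  push Not at hcon
  obtain ⟨a, ha⟩ := fPsi_nonempty hy h he
  refine H194.OT.rank_one_false hy h he (fle_GS hy h he) ha.1 fun b hb => ?_
  by_cases hba : b = a
  · exact Or.inl hba
  · exact Or.inr (hcon a ha b hb hba)

/-- **helper298's context.** -/
theorem fctx (hy : Hyp K p D) (h : MinBad D K F) (he : SF D K F = ∅) :
    H298.OT.Ctx ((D.diagonalSubgroup K).subgroupOf F) := by
  obtain ⟨l, M, hp⟩ := H3.OT.exists_isType hy.inList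
  exact ctx (inp hy h hp) h he hy.card hp (exists_two hy h he)

end Cfsg.Agent.H501.OT
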